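import Groth.Agent.FrobRetract.Trace
import Groth.Agent.QCoh.Sections
import Groth.Agent.QCoh.Tilde
import Groth.Agent.QCoh.CechStd
import Groth.Agent.QCoh.AffineCohom
import Groth.Agent.QCoh.Qcqs
import Groth.Agent.FrobSchLib.Basic
import Groth.Agent.PnCoh.Unit

/-!
# The Frobenius quotient of a double cover retracts onto that of the base
-/

universe u

set_option autoImplicit false
set_option backward.isDefEq.respectTransparency false
set_option backward.isDefEq.respectTransparency.types false
set_option linter.style.haveILetI false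

open CategoryTheory CategoryTheory.Limits AlgebraicGeometry TopologicalSpace Opposite

namespace Groth.Agent.FrobRetract

variable (p : ℕ) [Fact p.Prime] {X Y : Scheme.{u}} [FrobSch.IsCharP X p] [FrobSch.IsCharP Y p] (f : Y ⟶ X)
  [IsAffineHom f]

/-- The structure module. -/
noncomputable abbrev O (Z : Scheme.{u}) : Z.Modules := Coh.structureModule Z

theorem isQCoh_O (Z : Scheme.{u}) : Coh.IsQCoh (O Z) := PnCoh.isQCoh_structureModule Z

instance : IsAffineHom (FrobSch.frob Y p) := ⟨fun _ hU => hU⟩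

theorem epi_push {M N : Y.Modules} (hM : Coh.IsQCoh M) (hN : Coh.IsQCoh N) (φ : M ⟶ N) [Epi φ] :
    Epi ((Scheme.Modules.pushforward f).map φ) := by
  refine Preadditive.epi_of_cancel_zero _ fun {W} g hg => Scheme.Modules.hom_ext _ _ fun U => ?_
  ext y
  refine TopCat.Sheaf.eq_of_locally_eq' ⟨W.presheaf, W.isSheaf⟩
    (fun V : {V : X.affineOpens // V.1 ≤ U} => V.1.1) U (fun V => homOfLE V.2) (fun z hz => ?_) _ _ fun V => ?_
  · obtain ⟨_, ⟨V, hV, rfl⟩, hzV, hVU⟩ := X.isBasis_affineOpens.exists_subset_of_mem_open hz U.isOpen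
    exact Opens.mem_iSup.2 ⟨⟨⟨V, hV⟩, hVU⟩, hzV⟩
  · obtain ⟨m, hm⟩ := QCoh.app_surjective_of_shortExact
      (S := ShortComplex.mk (kernel.ι φ) φ (kernel.condition φ))
      { exact := ShortComplex.exact_of_f_is_kernel _ (kernelIsKernel φ) } (QCoh.isQCoh_kernel hM hN φ)
      (V.1.2.preimage f) (((Scheme.Modules.pushforward f).obj N).presheaf.map (homOfLE V.2).op y)
    refine ((QCoh.map_app_comm g (homOfLE V.2) y).symm.trans ?_).trans (map_zero _).symm
    rw [← hm]
    exact congr(($hg).app V.1.1 m)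

theorem isQCoh_frobQuot : Coh.IsQCoh (cokernel (ClSub.unitToPush (FrobSch.frob Y p))) :=
  QCoh.isQCoh_cokernel (isQCoh_O Y) (QCoh.isQCoh_pushforward _ (isQCoh_O Y)) _

/-- A retraction compatible with `p`-th powers gives one of Frobenius quotients, so cohomology injects. -/
theorem subsingleton_of_retraction
    (t : ∀ W : X.Opens, Γ(Y, f ⁻¹ᵁ W) →+ Γ(X, W))
    (hres : ∀ (W' W : X.Opens) (h : W' ≤ W) (a : Γ(Y, f ⁻¹ᵁ W)),
      t W' (Y.presheaf.map (homOfLE (f.preimage_mono h)).op a) = X.presheaf.map (homOfLE h).op (t W a))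
    (hretr : ∀ W r, t W (f.app W r) = r) (hpow : ∀ W a, t W (a ^ p) = t W a ^ p) (i : ℕ)
    (hY : Subsingleton (Coh.HH Y (cokernel (ClSub.unitToPush (FrobSch.frob Y p))) i)) :
    Subsingleton (Coh.HH X (cokernel (ClSub.unitToPush (FrobSch.frob X p))) i) := by
  let φY := ClSub.unitToPush (FrobSch.frob Y p)
  let φX := ClSub.unitToPush (FrobSch.frob X p)
  let Q := cokernel φY
  let π := cokernel.π φY
  let e : O Y ⟶ kernel π := kernel.lift π φY (cokernel.condition φY)
  haveI he : Epi e := inferInstanceAs (Epi (Abelian.factorThruImage φY))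
  have hF : Coh.IsQCoh ((Scheme.Modules.pushforward (FrobSch.frob Y p)).obj (O Y)) :=
    QCoh.isQCoh_pushforward _ (isQCoh_O Y)
  have hQ : Coh.IsQCoh Q := isQCoh_frobQuot p
  haveI : Epi ((Scheme.Modules.pushforward f).map e) :=
    epi_push f (isQCoh_O Y) (QCoh.isQCoh_kernel hF hQ π) e
  haveI : Epi ((Scheme.Modules.pushforward f).map π) := epi_push f hF hQ π
  let S : ShortComplex Y.Modules := ShortComplex.mk (kernel.ι π) π (kernel.condition π)
  haveI : (Scheme.Modules.pushforward f).IsRightAdjoint :=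
    (Scheme.Modules.pullbackPushforwardAdjunction f).isRightAdjoint
  let T := (S.map (Scheme.Modules.pushforward f)).map (QCoh.toAbFunctor X)
  haveI : PreservesFiniteColimits (QCoh.toAbFunctor X) :=
    (QCoh.toAbFunctor X).preservesFiniteColimits_of_preservesHomology
  have hT : T.ShortExact := by
    have h1 : (S.map (Scheme.Modules.pushforward f)).ShortExact :=
      { exact := ShortComplex.exact_of_f_is_kernel _
          (KernelFork.mapIsLimit _ (kernelIsKernel π) (Scheme.Modules.pushforward f))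
        mono_f := inferInstanceAs (Mono ((Scheme.Modules.pushforward f).map (kernel.ι π)))
        epi_g := inferInstanceAs (Epi ((Scheme.Modules.pushforward f).map π)) }
    exact h1.map_of_exact _
  haveI := hT.epi_g
  let SX : ShortComplex X.Modules := ShortComplex.mk φX (cokernel.π φX) (cokernel.condition φX)
  have hSX : (SX.map (QCoh.toAbFunctor X)).Exact :=
    (ShortComplex.exact_of_g_is_cokernel SX (cokernelIsCokernel φX)).map _
  haveI : Epi (SX.map (QCoh.toAbFunctor X)).g := inferInstanceAs (Epi ((QCoh.toAbFunctor X).map (cokernel.π φX)))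
  let tAb : (QCoh.toAbFunctor X).obj ((Scheme.Modules.pushforward f).obj (O Y)) ⟶ (QCoh.toAbFunctor X).obj (O X) :=
    ⟨{ app := fun W => AddCommGrpCat.ofHom (t W.unop)
       naturality := fun W W' j => by
        ext a
        exact hres W'.unop W.unop j.unop.le a }⟩
  let t' : T.X₂ ⟶ (SX.map (QCoh.toAbFunctor X)).X₂ :=
    ⟨{ app := fun W => AddCommGrpCat.ofHom (t W.unop)
       naturality := fun W W' j => by
        ext a
        exact hres W'.unop W.unop j.unop.le a }⟩
  let u' : (SX.map (QCoh.toAbFunctor X)).X₂ ⟶ T.X₂ :=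
    ⟨{ app := fun W => AddCommGrpCat.ofHom (f.app W.unop).hom.toAddMonoidHom
       naturality := fun W W' j => by
        ext a
        exact ConcreteCategory.congr_hom (f.naturality j) a }⟩
  let uAb : (QCoh.toAbFunctor X).obj (O X) ⟶ (QCoh.toAbFunctor X).obj ((Scheme.Modules.pushforward f).obj (O Y)) :=
    ⟨{ app := fun W => AddCommGrpCat.ofHom (f.app W.unop).hom.toAddMonoidHom
       naturality := fun W W' j => by
        ext a
        exact ConcreteCategory.congr_hom (f.naturality j) a }⟩
  let φ' := (QCoh.toAbFunctor X).map ((Scheme.Modules.pushforward f).map φY)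
  have htr : φ' ≫ t' = tAb ≫ (SX.map (QCoh.toAbFunctor X)).f := by
    ext W a
    exact hpow W.unop a
  have hu : (SX.map (QCoh.toAbFunctor X)).f ≫ u' = uAb ≫ φ' := by
    ext W a
    let a' : Γ(X, W.unop) := a
    exact map_pow (f.app W.unop).hom a' p
  have hut : u' ≫ t' = 𝟙 _ := by
    ext W a
    exact hretr W.unop a
  have he' : (QCoh.toAbFunctor X).map ((Scheme.Modules.pushforward f).map e) ≫ T.f = φ' := by
    show _ ≫ (QCoh.toAbFunctor X).map ((Scheme.Modules.pushforward f).map (kernel.ι π)) = _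
    rw [← Functor.map_comp, ← Functor.map_comp, kernel.lift_ι]
  have h0 : T.f ≫ t' ≫ (SX.map (QCoh.toAbFunctor X)).g = 0 := by
    rw [← cancel_epi ((QCoh.toAbFunctor X).map ((Scheme.Modules.pushforward f).map e)), reassoc_of% he',
      reassoc_of% htr, ShortComplex.zero, comp_zero, comp_zero]
  let r := hT.exact.desc (t' ≫ (SX.map (QCoh.toAbFunctor X)).g) h0
  have h1 : (SX.map (QCoh.toAbFunctor X)).f ≫ u' ≫ T.g = 0 := by
    rw [reassoc_of% hu, ← he', Category.assoc, ShortComplex.zero, comp_zero, comp_zero]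
  let s := hSX.desc (u' ≫ T.g) h1
  have hsr : s ≫ r = 𝟙 _ := by
    rw [← cancel_epi (SX.map (QCoh.toAbFunctor X)).g, ← Category.assoc, hSX.g_desc, Category.assoc,
      hT.exact.g_desc, reassoc_of% hut, Category.comp_id]
  obtain ⟨E⟩ := QCoh.HH_push_of_isAffineHom f hQ i
  haveI : Subsingleton (Sheaf.H T.X₃ i) := E.symm.toEquiv.subsingleton
  refine ⟨fun x y => ?_⟩
  have key : ∀ z : Sheaf.H (SX.map (QCoh.toAbFunctor X)).X₃ i, z = Sheaf.H.map r i (Sheaf.H.map s i z) := fun z => by
    rw [← Sheaf.H.map_comp_apply, hsr, Sheaf.H.map_id_apply]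
  exact (key x).trans ((congrArg (Sheaf.H.map r i) (Subsingleton.elim _ _)).trans (key y).symm)

end Groth.Agent.FrobRetract
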