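import Groth.Agent.H23.FinTrace
import Groth.Agent.H23.DblAlg
import Groth.Agent.QCoh.CechStd
import Groth.Prelude.Def_Frob
import Groth.Prelude.Def_ClSub2

/-!
# A Frobenius-compatible retraction for a double cover of odd characteristic
-/

universe u

set_option autoImplicit false
set_option backward.isDefEq.respectTransparency false
set_option backward.isDefEq.respectTransparency.types false
set_option linter.style.haveILetI false

open CategoryTheory CategoryTheory.Limits AlgebraicGeometry TopologicalSpace Opposite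

namespace Groth.Agent.FrobRetract

open H23.FinTrace

/-- The trace of a `p`-th power in a `2 × 2` matrix algebra. -/
theorem matrix_trace_pow {R : Type*} [CommRing R] (p : ℕ) [Fact p.Prime] (hp : (p : R) = 0) (h2 : IsUnit (2 : R))
    (M : Matrix (Fin 2) (Fin 2) R) : (M ^ p).trace = M.trace ^ p := by
  rcases subsingleton_or_nontrivial R with hR | hR
  · exact Subsingleton.elim _ _
  haveI : CharP R p := (CharP.charP_iff_prime_eq_zero Fact.out).2 hp
  haveI : CharP (Matrix (Fin 2) (Fin 2) R) p :=
    charP_of_injective_algebraMap (R := R) (fun a b h => by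
      have := congrFun (congrFun h 0) 0
      simpa [Matrix.algebraMap_matrix_apply] using this) p
  have hN : M.adjugate = M.trace • (1 : Matrix (Fin 2) (Fin 2) R) - M := by
    ext i j
    fin_cases i <;> fin_cases j <;> simp [Matrix.adjugate_fin_two, Matrix.trace_fin_two]
  have hadd : M + M.adjugate = M.trace • (1 : Matrix (Fin 2) (Fin 2) R) := by rw [hN]; abel
  have hcomm : Commute M M.adjugate := by
    show M * M.adjugate = M.adjugate * M
    rw [Matrix.mul_adjugate, Matrix.adjugate_mul]
  have htr : ∀ A : Matrix (Fin 2) (Fin 2) R, A.adjugate.trace = A.trace := fun A => by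
    simp [Matrix.adjugate_fin_two, Matrix.trace_fin_two, add_comm]
  have h := congrArg (fun A : Matrix (Fin 2) (Fin 2) R => (A ^ p).trace) hadd
  simp only [add_pow_char_of_commute p hcomm, Matrix.trace_add, ← Matrix.adjugate_pow, htr, smul_pow, one_pow,
    Matrix.trace_smul, Matrix.trace_one, Fintype.card_fin, smul_eq_mul] at h
  refine h2.mul_left_cancel ?_
  rw [two_mul, h, mul_comm]
  norm_num

variable {X : Scheme.{u}} {A : RelSpec.QCAlg X}

theorem trW_pow {U : X.Opens} {s : Fin 2 → A.presheaf.obj (op U)} (hs : IsFrameA A s) {W : X.Opens} (hW : W ≤ U)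
    (p : ℕ) [Fact p.Prime] (hp : (p : Γ(X, W)) = 0) (h2 : IsUnit (2 : Γ(X, W))) (a : A.presheaf.obj (op W)) :
    trW A W (a ^ p) = trW A W a ^ p := by
  letI := alg A W
  let b := basisA A hs W hW
  show Algebra.trace Γ(X, W) (A.presheaf.obj (op W)) (a ^ p) = Algebra.trace Γ(X, W) (A.presheaf.obj (op W)) a ^ p
  rw [Algebra.trace_eq_matrix_trace b, Algebra.trace_eq_matrix_trace b, map_pow]
  exact matrix_trace_pow p hp h2 _

/-- A retraction of the structure map compatible with `p`-th powers. -/
theorem exists_retraction (p : ℕ) [Fact p.Prime] (hp : p ≠ 2) [FrobSch.IsCharP X p]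
    (hA : FlatMod.IsFinLocFreeOfRank 2 A.toModule) :
    ∃ t : ∀ W : X.Opens, A.presheaf.obj (op W) →+ Γ(X, W),
      (∀ (W' W : X.Opens) (h : W' ≤ W) (a : A.presheaf.obj (op W)),
        t W' (A.presheaf.map (homOfLE h).op a) = X.presheaf.map (homOfLE h).op (t W a)) ∧
      (∀ W r, t W ((A.str.app (op W)).hom r) = r) ∧ ∀ W a, t W (a ^ p) = t W a ^ p := by
  have hA' := H23.DblAlg.isFinLocFree_of_rank hA
  obtain ⟨m, hm⟩ := (Fact.out : p.Prime).odd_of_ne_two hp
  have hc : ∀ W : X.Opens, ((m + 1 : ℕ) : Γ(X, W)) * 2 = 1 := fun W => by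
    have h := FrobSch.natCast_eq_zero_app X p W
    rw [hm] at h
    push_cast at h ⊢
    linear_combination h
  choose U hU e using hA
  choose s hs using fun x => H23.Frame.exists_frame (e x).some
  have hpow : ∀ (W : X.Opens) (a : A.presheaf.obj (op W)), trGlue hA' W (a ^ p) = trGlue hA' W a ^ p := fun W a => by
    refine X.sheaf.eq_of_locally_eq' (fun x : X => U x ⊓ W) W (fun x => homOfLE inf_le_right)
      (fun x hx => Opens.mem_iSup.mpr ⟨x, hU x, hx⟩) _ _ fun x => ?_
    show X.presheaf.map (homOfLE inf_le_right).op _ = X.presheaf.map (homOfLE inf_le_right).op _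
    rw [map_pow, ← trGlue_res, ← trGlue_res, map_pow, H23.DblAlg.trGlue_small hA' ⟨2, U x, s x, hs x, inf_le_left⟩,
      H23.DblAlg.trGlue_small hA' ⟨2, U x, s x, hs x, inf_le_left⟩]
    exact trW_pow (hs x) inf_le_left p (FrobSch.natCast_eq_zero_app X p _)
      (IsUnit.of_mul_eq_one_right _ (hc _)) _
  have hstr : ∀ (W : X.Opens) (r : Γ(X, W)), trGlue hA' W ((A.str.app (op W)).hom r) = 2 * r := fun W r => by
    refine X.sheaf.eq_of_locally_eq' (fun x : X => U x ⊓ W) W (fun x => homOfLE inf_le_right)
      (fun x hx => Opens.mem_iSup.mpr ⟨x, hU x, hx⟩) _ _ fun x => ?_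
    show X.presheaf.map (homOfLE inf_le_right).op _ = X.presheaf.map (homOfLE inf_le_right).op _
    rw [← trGlue_res, str_res, H23.DblAlg.trGlue_small hA' ⟨2, U x, s x, hs x, inf_le_left⟩, map_mul, map_ofNat,
      trW_algebraMap A (hs x) inf_le_left, nsmul_eq_mul, Nat.cast_ofNat]
  refine ⟨fun W => AddMonoidHom.mk' (fun a => ((m + 1 : ℕ) : Γ(X, W)) * trGlue hA' W a)
    fun a b => by rw [trGlue_add, mul_add], fun W' W h a => ?_, fun W r => ?_, fun W a => ?_⟩
  · simp only [AddMonoidHom.mk'_apply]
    rw [trGlue_res, map_mul, map_natCast]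
  · simp only [AddMonoidHom.mk'_apply]
    rw [hstr, ← mul_assoc, hc, one_mul]
  · simp only [AddMonoidHom.mk'_apply]
    rw [hpow, mul_pow]
    refine congrArg (· * _) ?_
    exact (map_natCast (FrobSch.powHom p Γ(X, W) (FrobSch.natCast_eq_zero_app X p W)) (m + 1)).symm

end Groth.Agent.FrobRetract
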